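import Cfsg.Agent.H179.SLD.HOne

/-!
# The dimensions of `Z¹(SL₂(16), V_b)` (helper179, for S5916)

`zb b` : `0` for `b = 0`; `dim V_b + 1` for `b` a power of 2; `dim V_b` otherwise. `finrank_Z1_rb : dim Z¹ ≤ zb b`.
-/

set_option autoImplicit false
set_option linter.unusedSectionVars false

namespace Cfsg.Agent.H179.SLD

open Matrix Cfsg.Agent.H943.SL2Rel Cfsg.Agent.H943.RepAdd Cfsg.Agent.H943.SL2Mod
open Cfsg.Agent.H179.SLC

variable {k : Type*} [Field k] [CharP k 2] [DecidableEq k] {F : Type*} [Field F] [Fintype F] [DecidableEq F] [CharP F 2]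
  (ι : F →+* k)

section Sixteen

variable (hq : Fintype.card F = 16)

include hq in
theorem ZT_zero (hι : Function.Injective ι) (hs1 : (-1 : k) ^ (Fintype.card F - 1) = 1) {b : ℕ} (hb0 : 0 < b)
    (hb : b < Fintype.card F - 1) (hP : isP b = false) : ∀ c ∈ ZT (rb ι 2 hs1 hb.le), c = 0 := by
  intro c hc
  have hb' : b < 15 := by omega
  obtain ⟨γ, h1, h2, h3⟩ := relK ι hι hs1 hb0 hb hc
  rw [hq] at h3
  have hrel : Rel b γ := ⟨h2, h3⟩
  have h4 := rel_zero hb0 hb' hrel
  have h5 : (c.1 (u 1) : F × F → k) = 0 := by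
    rw [h1]
    refine Finset.sum_eq_zero fun m hm => ?_
    have hm' := Finset.mem_range.1 hm
    rw [h4 m (by omega) (by rw [hP, if_neg (by decide)]; omega), zero_smul]
  exact ZT_eq_zero _ (fixT ι hι hs1 hb0 hb) hc (Subtype.ext h5)

include hq in
theorem finrank_ZT_le (hι : Function.Injective ι) (hs1 : (-1 : k) ^ (Fintype.card F - 1) = 1) {b : ℕ} (hb0 : 0 < b)
    (hb : b < Fintype.card F - 1) : Module.finrank k (ZT (rb ι 2 hs1 hb.le)) ≤ if isP b then 1 else 0 := by
  have hb' : b < 15 := by omega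
  -- the values at `u 1`
  have hval : ∀ c ∈ ZT (rb ι 2 hs1 hb.le), ∃ γ : k, (isP b = false → γ = 0) ∧ (c.1 (u 1) : F × F → k) = γ • mon ι b b := by
    intro c hc
    obtain ⟨γ, h1, h2, h3⟩ := relK ι hι hs1 hb0 hb hc
    rw [hq] at h3
    have hrel : Rel b γ := ⟨h2, h3⟩
    have h4 := rel_zero hb0 hb' hrel
    refine ⟨γ b, fun h0 => h4 b le_rfl (by rw [h0]; simp; omega), ?_⟩
    rw [h1, Finset.sum_eq_single b]
    · intro m hm hmb
      have hm' := Finset.mem_range.1 hm
      rw [h4 m (by omega) (by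
        by_cases h5 : isP b = true
        · rw [if_pos h5]; exact hmb
        · rw [if_neg h5]; omega), zero_smul]
    · intro h0
      exact absurd (Finset.mem_range.2 (by omega)) h0
  have hzero : ∀ c ∈ ZT (rb ι 2 hs1 hb.le), (c.1 (u 1) : F × F → k) = 0 → c = 0 := by
    intro c hc h0
    exact ZT_eq_zero _ (fixT ι hι hs1 hb0 hb) hc (Subtype.ext h0)
  by_cases hP : isP b = true
  · rw [if_pos hP]
    let f : ZT (rb ι 2 hs1 hb.le) →ₗ[k] (F × F → k) :=
      { toFun := fun c => (((c : Z1 (rb ι 2 hs1 hb.le)).1 (u 1) : Vb ι b) : F × F → k)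
        map_add' := fun x y => rfl
        map_smul' := fun a x => rfl }
    have hf : Function.Injective f := by
      intro x y hxy
      have h1 : ((x : Z1 (rb ι 2 hs1 hb.le)) - (y : Z1 (rb ι 2 hs1 hb.le))) ∈ ZT (rb ι 2 hs1 hb.le) := by
        intro a
        show (x : Z1 (rb ι 2 hs1 hb.le)).1 (h a) - (y : Z1 (rb ι 2 hs1 hb.le)).1 (h a) = 0
        rw [x.2 a, y.2 a, sub_self]
      have h2 := hzero _ h1 (by
        show (((x : Z1 (rb ι 2 hs1 hb.le)).1 (u 1) : Vb ι b) : F × F → k) -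
          (((y : Z1 (rb ι 2 hs1 hb.le)).1 (u 1) : Vb ι b) : F × F → k) = 0
        exact sub_eq_zero.2 hxy)
      exact Subtype.ext (sub_eq_zero.1 h2)
    have h1 : LinearMap.range f ≤ Submodule.span k {mon ι b b} := by
      rintro _ ⟨c, rfl⟩
      obtain ⟨γ, -, h2⟩ := hval _ c.2
      show (((c : Z1 (rb ι 2 hs1 hb.le)).1 (u 1) : Vb ι b) : F × F → k) ∈ _
      rw [h2]
      exact Submodule.smul_mem _ _ (Submodule.mem_span_singleton_self _)
    rw [← LinearMap.finrank_range_of_inj hf]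
    refine (Submodule.finrank_mono h1).trans ?_
    exact (finrank_span_le_card (R := k) ({mon ι b b} : Set (F × F → k))).trans (by simp)
  · rw [if_neg hP]
    have h1 : ZT (rb ι 2 hs1 hb.le) = ⊥ := by
      rw [eq_bot_iff]
      intro c hc
      obtain ⟨γ, h2, h3⟩ := hval c hc
      rw [h2 (by simpa using hP), zero_smul] at h3
      exact (Submodule.mem_bot k).2 (hzero c hc h3)
    rw [h1, finrank_bot]

end Sixteen

/-- the exponents occurring in `V_b`, `b < 16` -/
def Bn (b : ℕ) : Finset ℕ := (Finset.range (b + 1)).filter fun m => oc 4 b m = true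

theorem Bf_eq {b : ℕ} (hb : b < 16) : Bf k b = Bn b := by
  unfold Bf Bn
  refine Finset.filter_congr fun m hm => ?_
  have hm' := Finset.mem_range.1 hm
  rw [oc_spec 4 b m (by norm_num; omega) (by norm_num; omega)]
  by_cases h : oc 4 b m = true <;> simp [h]

/-- the bounds -/
def zb (b : ℕ) : ℕ := if b = 0 then 0 else (Bn b).card + (if isP b then 1 else 0)

/-- **`dim Z¹(SL₂(16), V_b) ≤ zb b`** -/
theorem finrank_Z1_rb (hq : Fintype.card F = 16) (hι : Function.Injective ι)
    (hs1 : (-1 : k) ^ (Fintype.card F - 1) = 1) {b : ℕ} (hb : b ≤ Fintype.card F - 1) :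
    Module.finrank k (Z1 (rb ι 2 hs1 hb)) ≤ zb b := by
  unfold zb
  rcases Nat.eq_zero_or_pos b with rfl | hb0
  · rw [if_pos rfl]
    have h1 : ∀ c : Z1 (rb ι 2 hs1 hb), c = 0 := Z1_triv _ (by omega) (rb_zero_triv ι hs1)
    have : Subsingleton (Z1 (rb ι 2 hs1 hb)) := ⟨fun x y => by rw [h1 x, h1 y]⟩
    rw [Module.finrank_zero_of_subsingleton]
  · rw [if_neg hb0.ne']
    rcases Nat.lt_or_ge b (Fintype.card F - 1) with hb' | hb'
    · have h1 := finrank_Z1_ZT (rb ι 2 hs1 hb) cast_N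
      have h2 := finrank_ZT_le ι hq hι hs1 hb0 hb'
      rw [finrank_Vb ι 2 hι hs1 hb, Bf_eq (by omega)] at h1
      omega
    · have hbe : b = Fintype.card F - 1 := by omega
      subst hbe
      have h1 : LinearMap.range (cob (rb ι 2 hs1 hb)) = ⊤ := by
        rw [eq_top_iff]
        intro c _
        obtain ⟨v, hv⟩ := cob_St ι hι hs1 c
        exact ⟨v, hv.symm⟩
      have h2 := LinearMap.finrank_range_le (cob (rb ι 2 hs1 hb))
      rw [h1, finrank_top, finrank_Vb ι 2 hι hs1 hb, Bf_eq (by omega)] at h2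
      omega

end Cfsg.Agent.H179.SLD
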